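import Groth.Agent.VarBertini31.Quot
import Groth.Agent.SmoothReg.Field
import Groth.Agent.FlatMisc.SpreadSmooth

/-!
Affine Bertini theorem in characteristic zero for linear systems without base points.
-/

open MvPolynomial TensorProduct

universe u

set_option linter.style.haveILetI false

namespace Groth.Agent.VarBertini31

/-- In characteristic zero the generic fibre of an algebra smooth over the ground field is smooth. -/
theorem smooth_generic_fibre (k R S : Type u) [Field k] [CharZero k] [CommRing R] [IsDomain R]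
    [Algebra k R] [CommRing S] [Algebra k S] [Algebra R S] [IsScalarTower k R S] [Algebra.Smooth k S] :
    Algebra.Smooth (FractionRing R) (FractionRing R ⊗[R] S) := by
  haveI : Algebra.FiniteType k S := inferInstance
  haveI : Algebra.FiniteType R S := Algebra.FiniteType.of_restrictScalars_finiteType k R S
  let K := FractionRing R
  let T := K ⊗[R] S
  haveI : CharZero K := charZero_of_injective_algebraMap (algebraMap k K).injective
  haveI : PerfectField K := PerfectField.ofCharZero
  letI : Algebra S T := Algebra.TensorProduct.rightAlgebra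
  haveI : Algebra.FiniteType K T := inferInstance
  haveI : Algebra.FinitePresentation K T := Algebra.FinitePresentation.of_finiteType.1 inferInstance
  haveI : IsLocalization (Algebra.algebraMapSubmonoid S (nonZeroDivisors R)) T :=
    (Algebra.isLocalization_iff_isPushout (nonZeroDivisors R) K (T := S) (B := T)).2 inferInstance
  suffices h : Algebra.smoothLocus K T = Set.univ by
    exact ⟨Algebra.smoothLocus_eq_univ_iff.1 h, inferInstance⟩
  refine Set.eq_univ_of_forall fun P => ?_
  show Algebra.IsSmoothAt K P.asIdeal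
  rw [SmoothReg.isSmoothAt_iff_isRegularLocalRing]
  let p := P.asIdeal.comap (algebraMap S T)
  haveI : p.IsPrime := Ideal.comap_isPrime _ _
  haveI : Algebra.IsSmoothAt k p := by
    have : (⟨p, inferInstance⟩ : PrimeSpectrum S) ∈ Algebra.smoothLocus k S := by
      rw [Algebra.smoothLocus_eq_univ]; trivial
    exact this
  haveI := CotTLib.isRegularLocalRing_of_isSmoothAt (k := k) p
  haveI : IsLocalization.AtPrime (Localization.AtPrime P.asIdeal) p :=
    IsLocalization.isLocalization_isLocalization_atPrime_isLocalization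
      (Algebra.algebraMapSubmonoid S (nonZeroDivisors R)) (Localization.AtPrime P.asIdeal) P.asIdeal
  exact IsRegularLocalRing.of_ringEquiv
    (IsLocalization.algEquiv p.primeCompl (Localization.AtPrime p) (Localization.AtPrime P.asIdeal)).toRingEquiv

/-- For `c` off a proper closed subset, the member `Σ cᵢ aᵢ` of an affine linear system without base
points in a smooth algebra over a field of characteristic zero is smooth. -/
theorem exists_good_generated {k B : Type u} [Field k] [CharZero k] [CommRing B] [Algebra k B]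
    [Algebra.Smooth k B] {n : ℕ} (a : Fin n → B) (ha : Ideal.span (Set.range a) = ⊤) :
    ∃ p : MvPolynomial (Fin n) k, p ≠ 0 ∧ ∀ c : Fin n → k, eval c p ≠ 0 →
      Algebra.Smooth k (B ⧸ Ideal.span {∑ i, algebraMap k B (c i) * a i}) := by
  classical
  obtain ⟨β, hβ⟩ := (Ideal.mem_span_range_iff_exists_fun (R := B)).1
    (ha ▸ Submodule.mem_top (x := (1 : B)))
  let R := MvPolynomial (Fin n) k
  let P := MvPolynomial (Fin n) B
  letI : Algebra R P := (MvPolynomial.map (algebraMap k B)).toAlgebra
  haveI : IsScalarTower k R P := IsScalarTower.of_algebraMap_eq fun x => by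
    simp [RingHom.algebraMap_toAlgebra, R, P, IsScalarTower.algebraMap_apply k B P]
  let h : P := ∑ i, X i * C (a i)
  let S := P ⧸ Ideal.span {h}
  haveI : IsScalarTower k R S := inferInstance
  haveI : Algebra.Smooth B P := ⟨inferInstance, inferInstance⟩
  haveI : Algebra.Smooth k P := Algebra.Smooth.comp k B P
  haveI : Algebra.Smooth k S := smooth_quotient h fun v hv _ => by
    let d : Derivation k P P := (mkDerivation B fun i => C (β i)).restrictScalars k
    refine ⟨d.liftKaehlerDifferential, ?_⟩
    have e : d h = 1 := by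
      show mkDerivation B (fun i => (C (β i) : P)) (∑ i, X i * C (a i)) = 1
      rw [map_sum, ← MvPolynomial.C_1, ← hβ, map_sum]
      refine Finset.sum_congr rfl fun i _ => ?_
      rw [Derivation.leibniz, mkDerivation_X, derivation_C, smul_zero, zero_add, smul_eq_mul,
        map_mul, mul_comm]
    rw [Derivation.liftKaehlerDifferential_comp_D, e]
    exact fun h1 => hv.ne_top ((Ideal.eq_top_iff_one _).2 h1)
  haveI : Algebra.FiniteType R S := Algebra.FiniteType.of_restrictScalars_finiteType k R S
  haveI := smooth_generic_fibre k R S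
  obtain ⟨p, hp, hsm⟩ := FlatMisc.SpreadRed.exists_smooth_near (R := R) (S := S) (FractionRing R)
    (IsFractionRing.injective R (FractionRing R))
  refine ⟨p, hp, fun c hc => ?_⟩
  letI : Algebra R k := (eval c).toAlgebra
  haveI hT : Algebra.Smooth k (k ⊗[R] S) := hsm k hc
  set hc' := ∑ i, algebraMap k B (c i) * a i with hhc
  let Q := B ⧸ Ideal.span {hc'}
  letI : Algebra R Q := ((algebraMap k Q).comp (eval c)).toAlgebra
  haveI : IsScalarTower R k Q := IsScalarTower.of_algebraMap_eq fun _ => rfl
  let g₀ : P →+* Q := eval₂Hom (Ideal.Quotient.mk _) (fun i => algebraMap k Q (c i))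
  have hg₀ : g₀ h = 0 := by
    refine Eq.trans ?_ (Ideal.Quotient.eq_zero_iff_mem.2 (Ideal.mem_span_singleton_self hc'))
    simp only [g₀, h, map_sum, map_mul]
    refine (Finset.sum_congr rfl fun i _ => ?_).trans (map_sum (Ideal.Quotient.mk _) _ _).symm
    rw [map_mul]
    exact congrArg₂ (· * ·) (eval₂Hom_X' _ _ i) (eval₂Hom_C _ _ (a i))
  let g : S →ₐ[R] Q :=
    { toRingHom := Ideal.Quotient.lift _ g₀ fun x hx => by
        obtain ⟨y, rfl⟩ := Ideal.mem_span_singleton'.1 hx
        rw [map_mul, hg₀, mul_zero]
      commutes' := fun r => by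
        show g₀ (MvPolynomial.map (algebraMap k B) r) = algebraMap k Q (eval c r)
        refine RingHom.congr_fun (MvPolynomial.ringHom_ext (f := g₀.comp (MvPolynomial.map (algebraMap k B)))
          (g := (algebraMap k Q).comp (eval c)) (fun x => ?_) fun i => ?_) r
        · show g₀ (MvPolynomial.map (algebraMap k B) (C x)) = algebraMap k Q (eval c (C x))
          rw [map_C, eval_C]
          exact eval₂Hom_C _ _ _
        · show g₀ (MvPolynomial.map (algebraMap k B) (X i)) = algebraMap k Q (eval c (X i))
          rw [map_X, eval_X]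
          exact eval₂Hom_X' _ _ i }
  let fwd : k ⊗[R] S →ₐ[k] Q :=
    Algebra.TensorProduct.lift (Algebra.ofId k Q) g fun _ _ => Commute.all _ _
  let j : P →+* k ⊗[R] S :=
    (Algebra.TensorProduct.includeRight : S →ₐ[R] k ⊗[R] S).toRingHom.comp (Ideal.Quotient.mk _)
  have hjR : ∀ r : R, j (MvPolynomial.map (algebraMap k B) r) = (eval c r) ⊗ₜ[R] (1 : S) := by
    intro r
    show (1 : k) ⊗ₜ[R] (algebraMap R S r) = _
    rw [Algebra.algebraMap_eq_smul_one, TensorProduct.tmul_smul, TensorProduct.smul_tmul',
      Algebra.smul_def, mul_one]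
    rfl
  let b₀ : B →ₐ[k] k ⊗[R] S :=
    { toRingHom := j.comp C
      commutes' := fun x => by
        show j (C (algebraMap k B x)) = x ⊗ₜ[R] (1 : S)
        rw [← map_C (algebraMap k B) x, hjR, eval_C] }
  have hb₀ : b₀ hc' = 0 := by
    show j (C hc') = 0
    have : j h = 0 := by
      show (1 : k) ⊗ₜ[R] (Ideal.Quotient.mk (Ideal.span {h}) h : S) = 0
      rw [Ideal.Quotient.eq_zero_iff_mem.2 (Ideal.mem_span_singleton_self h)]
      exact TensorProduct.tmul_zero _ _
    rw [← this]
    simp only [h, hhc, map_sum, map_mul]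
    refine Finset.sum_congr rfl fun i _ => ?_
    congr 1
    rw [← map_C (algebraMap k B) (c i), hjR, eval_C, ← map_X (algebraMap k B) i, hjR, eval_X]
  let bwd : Q →ₐ[k] k ⊗[R] S := Ideal.Quotient.liftₐ _ b₀ fun x hx => by
    obtain ⟨y, rfl⟩ := Ideal.mem_span_singleton'.1 hx
    rw [map_mul, hb₀]
    exact mul_zero (b₀ y)
  refine Algebra.Smooth.of_equiv (A := k ⊗[R] S) (B := Q) (AlgEquiv.ofAlgHom fwd bwd ?_ ?_)
  · refine AlgHom.ext fun x => ?_
    obtain ⟨b, rfl⟩ := Ideal.Quotient.mk_surjective x
    show fwd ((1 : k) ⊗ₜ[R] Ideal.Quotient.mk _ (C b)) = _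
    rw [Algebra.TensorProduct.lift_tmul, map_one, one_mul]
    show g₀ (C b) = _
    rw [eval₂Hom_C]
    rfl
  · refine Algebra.TensorProduct.ext (Subsingleton.elim _ _) (AlgHom.ext fun s => ?_)
    obtain ⟨x, rfl⟩ := Ideal.Quotient.mk_surjective s
    show bwd (fwd ((1 : k) ⊗ₜ[R] _)) = j x
    rw [Algebra.TensorProduct.lift_tmul, map_one, one_mul]
    show bwd (g₀ x) = j x
    refine RingHom.congr_fun (MvPolynomial.ringHom_ext (f := bwd.toRingHom.comp g₀) (g := j)
      (fun b => ?_) fun i => ?_) x
    · show bwd (g₀ (C b)) = _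
      rw [eval₂Hom_C]
      rfl
    · show bwd (g₀ (X i)) = _
      rw [show g₀ (X i) = algebraMap k Q (c i) from eval₂Hom_X' _ _ i, AlgHom.commutes,
        ← map_X (algebraMap k B) i, hjR, eval_X]
      rfl

end Groth.Agent.VarBertini31
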