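import Groth.Agent.SmoothReg.Scheme
import Groth.Agent.ZeroSchX.Basic
import Groth.Prelude.Def_Formal

/-!
Charts for the Bertini theorems: smoothness of the zero scheme of a section from its equations.
-/

universe u

set_option linter.style.haveILetI false
set_option backward.isDefEq.respectTransparency false
set_option backward.isDefEq.respectTransparency.types false

open CategoryTheory AlgebraicGeometry TopologicalSpace Opposite

namespace Groth.Agent.VarBertini31

open Groth.Agent.SmoothReg (affMap)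

variable {k : Type u} [Field k] {Y : Scheme.{u}}

/-- An affine open with a frame of `L` whose functions form a standard smooth algebra. -/
structure Chart (f : Y ⟶ Spec (CommRingCat.of k)) (L : Y.Modules) where
  V : Y.Opens
  isAffine : IsAffineOpen V
  e : Γ(L, V)
  frame : InvX.IsFrame e
  std : (affMap f V).IsStandardSmooth

theorem exists_chart_at (f : Y ⟶ Spec (CommRingCat.of k)) [Smooth f] {L : Y.Modules}
    (hL : PicF.IsInvertible L) (x : Y) : ∃ c : Chart f L, x ∈ c.V := by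
  obtain ⟨W, hxW, e, he⟩ := InvX.exists_frame hL x
  obtain ⟨U, hU, V, hV, hxV, hVU, hstd⟩ := Smooth.exists_isStandardSmooth f x
  obtain ⟨g, hgW, hxg⟩ := hV.exists_basicOpen_le ⟨x, hxW⟩ hxV
  have hUtop : U = ⊤ := Opens.ext <| Set.eq_univ_of_forall fun y =>
    (Subsingleton.elim (f x) y) ▸ hVU hxV
  subst hUtop
  refine ⟨⟨Y.basicOpen g, hV.basicOpen g, _, he.res hgW, ?_⟩, hxg⟩
  have h1 : (affMap f V).IsStandardSmooth :=
    RingHom.isStandardSmooth_respectsIso.2 (f.appLE ⊤ V (by simp)).hom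
      (Scheme.ΓSpecIso (CommRingCat.of k)).commRingCatIsoToRingEquiv.symm hstd
  haveI := hV.isLocalization_basicOpen g
  have h2 := RingHom.isStandardSmooth_stableUnderComposition (affMap f V)
    (algebraMap Γ(Y, V) Γ(Y, Y.basicOpen g)) h1
    (RingHom.isStandardSmooth_holdsForLocalizationAway Γ(Y, Y.basicOpen g) g)
  convert h2 using 1
  refine RingHom.ext fun c => ?_
  show _ = Y.presheaf.map (homOfLE (Y.basicOpen_le g)).op (affMap f V c)
  simp only [affMap, RingHom.comp_apply]
  exact (congrArg (fun φ => CommRingCat.Hom.hom φ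
    ((Scheme.ΓSpecIso (CommRingCat.of k)).inv.hom c))
    (f.appLE_map (U := ⊤) (V := V) (by simp) (homOfLE (Y.basicOpen_le g)).op)).symm

theorem exists_charts (f : Y ⟶ Spec (CommRingCat.of k)) [Smooth f] [QuasiCompact f] {L : Y.Modules}
    (hL : PicF.IsInvertible L) : ∃ s : Finset Y, ∃ c : Y → Chart f L, ∀ y, ∃ x ∈ s, y ∈ (c x).V := by
  choose c hc using exists_chart_at f hL
  haveI : CompactSpace Y := QuasiCompact.compactSpace_of_compactSpace f
  obtain ⟨s, hs⟩ := isCompact_univ.elim_finite_subcover (fun x => ((c x).V : Set Y))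
    (fun x => (c x).V.isOpen) fun x _ => Set.mem_iUnion.2 ⟨x, hc x⟩
  exact ⟨s, c, fun y => by simpa using hs (Set.mem_univ y)⟩

theorem fromSpec_comp (f : Y ⟶ Spec (CommRingCat.of k)) {V : Y.Opens} (hV : IsAffineOpen V) :
    hV.fromSpec ≫ f = Spec.map (CommRingCat.ofHom (affMap f V)) := by
  rw [← (isAffineOpen_top _).SpecMap_appLE_fromSpec f hV (by simp : V ≤ f ⁻¹ᵁ ⊤),
    IsAffineOpen.fromSpec_top, Scheme.isoSpec_Spec_inv, ← Spec.map_comp]
  rfl

/-- The zero scheme of a section is smooth if its equations in the charts of a cover define smooth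
algebras. -/
theorem smooth_zeroScheme (f : Y ⟶ Spec (CommRingCat.of k)) {L : Y.Modules}
    (hL : PicF.IsInvertible L) (σ : Coh.structureModule Y ⟶ L) {ι : Type*} (c : ι → Chart f L)
    (hcov : ∀ y, ∃ i, y ∈ (c i).V) (h : ∀ i, Γ(Y, (c i).V))
    (hh : ∀ i, ZeroSchX.sv σ (c i).V = h i • (c i).e)
    (hsm : ∀ i, letI := (affMap f (c i).V).toAlgebra
      Algebra.Smooth k (Γ(Y, (c i).V) ⧸ Ideal.span {h i})) :
    Smooth ((PicF2.zeroScheme L σ).subschemeι ≫ f) := by
  let Z := PicF2.zeroScheme L σ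
  let 𝒰 : Z.subscheme.OpenCover := Scheme.Cover.mkOfCovers ι
    (fun i => Spec (.of (Γ(Y, (c i).V) ⧸ Z.ideal ⟨(c i).V, (c i).isAffine⟩)))
    (fun i => Z.subschemeCover.f ⟨(c i).V, (c i).isAffine⟩)
    (fun z => by
      obtain ⟨i, hi⟩ := hcov (Z.subschemeι z)
      exact ⟨i, (Z.opensRange_subschemeCover_map ⟨(c i).V, (c i).isAffine⟩).ge hi⟩)
    (fun i => Z.subschemeCover.openCover.map_prop _)
  refine IsZariskiLocalAtSource.of_openCover (P := @Smooth) 𝒰 fun i => ?_
  show Smooth (Z.subschemeCover.f ⟨(c i).V, (c i).isAffine⟩ ≫ Z.subschemeι ≫ f)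
  rw [← Category.assoc, Scheme.IdealSheafData.subschemeCover_map_subschemeι,
    Scheme.IdealSheafData.glueDataObjι, Category.assoc, Category.assoc,
    IsAffineOpen.isoSpec_inv_ι_assoc, fromSpec_comp, ← Spec.map_comp]
  rw [HasRingHomProperty.Spec_iff (P := @Smooth)]
  letI := (affMap f (c i).V).toAlgebra
  have hI : Z.ideal ⟨(c i).V, (c i).isAffine⟩ = Ideal.span {h i} :=
    (ZeroSchX.ideal_zeroScheme hL σ _).trans (ZeroSchX.zeroIdealOn_eq_span σ (c i).frame (hh i))
  haveI := hsm i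
  haveI : Algebra.Smooth k (Γ(Y, (c i).V) ⧸ Z.ideal ⟨(c i).V, (c i).isAffine⟩) :=
    Algebra.Smooth.of_equiv (Ideal.quotientEquivAlgOfEq k hI.symm)
  exact RingHom.smooth_algebraMap.2 (inferInstance :
    Algebra.Smooth k (Γ(Y, (c i).V) ⧸ Z.ideal ⟨(c i).V, (c i).isAffine⟩))

variable [Y.Over (Spec (CommRingCat.of k))] {L : Y.Modules}

/-- The value of a section over an open, as an additive map. -/
noncomputable def svHom (U : Y.Opens) : (Coh.structureModule Y ⟶ L) →+ Γ(L, U) :=
  AddMonoidHom.mk' (fun σ => ZeroSchX.sv σ U) fun _ _ => rfl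

theorem sv_smulMod (U : Y.Opens) (c : k) (σ : Coh.structureModule Y ⟶ L) :
    ZeroSchX.sv (Formal.smulMod k (Coh.structureModule Y) c ≫ σ) U =
      affMap (Y ↘ Spec (CommRingCat.of k)) U c • ZeroSchX.sv σ U := by
  refine Eq.trans ?_ ((σ.val.app (op U)).hom.map_smul _ _)
  rfl

theorem sv_sum (U : Y.Opens) {n : ℕ} (c : Fin n → k) (σ : Fin n → (Coh.structureModule Y ⟶ L)) :
    ZeroSchX.sv (∑ i, Formal.smulMod k (Coh.structureModule Y) (c i) ≫ σ i) U =
      ∑ i, affMap (Y ↘ Spec (CommRingCat.of k)) U (c i) • ZeroSchX.sv (σ i) U := by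
  refine (map_sum (svHom (L := L) U) _ _).trans (Finset.sum_congr rfl fun i _ => ?_)
  exact sv_smulMod U (c i) (σ i)

end Groth.Agent.VarBertini31
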