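import Groth.Agent.VarBertini31.Quot
import Groth.Agent.SmoothDim.Basic
import Mathlib.RingTheory.Smooth.StandardSmoothCotangent
import Mathlib.RingTheory.Jacobson.Ring
import Mathlib.FieldTheory.IsAlgClosed.Basic
import Mathlib.LinearAlgebra.Matrix.NonsingularInverse

/-!
Affine Bertini theorem for linear systems separating tangent vectors at closed points.
-/

open KaehlerDifferential MvPolynomial Matrix

universe u

set_option linter.style.haveILetI false

namespace Groth.Agent.VarBertini31

section

variable {k B : Type u} [CommRing k] [CommRing B] [Algebra k B]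

theorem map_D_mem_of_mem_sq (φ : Ω[B⁄k] →ₗ[B] B) {v : Ideal B} {w : B} (hw : w ∈ v ^ 2) :
    φ (D k B w) ∈ v := by
  rw [pow_two] at hw
  induction hw using Submodule.mul_induction_on' with
  | mem_mul_mem x hx y hy =>
    rw [Derivation.leibniz, map_add, map_smul, map_smul, smul_eq_mul, smul_eq_mul]
    exact v.add_mem (v.mul_mem_right _ hx) (v.mul_mem_right _ hy)
  | add x _ y _ hx hy => rw [map_add, map_add]; exact v.add_mem hx hy

/-- A matrix surjective modulo every maximal ideal has a right inverse. -/
theorem exists_right_inverse {σ τ : Type u} [Fintype σ] [Fintype τ] [DecidableEq σ]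
    (M : Matrix σ τ B)
    (H : ∀ v : Ideal B, v.IsMaximal → ∀ j : σ, ∃ c : τ → B,
      ∀ i, (M *ᵥ c) i - (if i = j then 1 else 0) ∈ v) :
    ∃ N : Matrix τ σ B, M * N = 1 := by
  let I : Ideal B :=
    { carrier := {b | ∃ N : Matrix τ σ B, M * N = b • (1 : Matrix σ σ B)}
      add_mem' := fun {b b'} ⟨N, hN⟩ ⟨N', hN'⟩ => ⟨N + N', by rw [Matrix.mul_add, hN, hN', add_smul]⟩
      zero_mem' := ⟨0, by rw [Matrix.mul_zero, zero_smul]⟩
      smul_mem' := fun r {b} ⟨N, hN⟩ => ⟨r • N, by rw [Matrix.mul_smul, hN, smul_assoc]⟩ }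
  suffices h : I = ⊤ by
    obtain ⟨N, hN⟩ := (h ▸ Submodule.mem_top : (1 : B) ∈ I)
    exact ⟨N, hN.trans (one_smul _ _)⟩
  by_contra hne
  obtain ⟨v, hv, hle⟩ := Ideal.exists_le_maximal I hne
  choose c hc using H v hv
  let C : Matrix τ σ B := fun i j => c j i
  have hdet : (M * C).det ∈ v := by
    refine hle ⟨C * (M * C).adjugate, ?_⟩
    rw [← Matrix.mul_assoc, Matrix.mul_adjugate]
  haveI := hv
  have h1 : (M * C).map (Ideal.Quotient.mk v) = 1 := by
    ext i j
    rw [Matrix.map_apply, Matrix.one_apply]
    have := Ideal.Quotient.eq.2 (hc j i)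
    refine Eq.trans ?_ (this.trans (by split <;> simp))
    rfl
  have h2 : Ideal.Quotient.mk v (M * C).det = 1 := by
    rw [RingHom.map_det, RingHom.mapMatrix_apply, h1, Matrix.det_one]
  rw [Ideal.Quotient.eq_zero_iff_mem.2 hdet] at h2
  exact zero_ne_one h2

end

/-- For `c` off a proper closed subset, the member `f + Σ cᵢ aᵢ` of an affine linear system
separating tangent vectors at closed points of a smooth algebra is smooth. -/
theorem exists_good_jets {k B : Type u} [Field k] [IsAlgClosed k] [CommRing B] [Algebra k B]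
    [Algebra.IsStandardSmooth k B] {m : ℕ} (a : Fin m → B) (f : B)
    (hjet : ∀ v : Ideal B, v.IsMaximal → ∀ b : B, ∃ c : Fin m → k,
      ∑ i, algebraMap k B (c i) * a i - b ∈ v ^ 2) :
    ∃ q : MvPolynomial (Fin m) k, q ≠ 0 ∧ ∀ c : Fin m → k, eval c q ≠ 0 →
      Algebra.Smooth k (B ⧸ Ideal.span {f + ∑ i, algebraMap k B (c i) * a i}) := by
  classical
  rcases subsingleton_or_nontrivial B with hB | hB
  · exact ⟨1, one_ne_zero, fun c _ => smooth_quotient _ fun v hv =>
      absurd (Ideal.eq_top_of_isUnit_mem v (Subsingleton.elim (1 : B) 0 ▸ v.zero_mem) isUnit_one) hv.ne_top⟩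
  obtain ⟨ι, σ₀, _, _, ⟨Q⟩⟩ := (inferInstance : Algebra.IsStandardSmooth k B).out
  haveI : Algebra.IsStandardSmoothOfRelativeDimension Q.dimension k B :=
    Q.isStandardSmoothOfRelativeDimension rfl
  set r := Q.dimension
  haveI : Algebra.FinitePresentation k B := inferInstance
  let b : Module.Basis (Fin r) B Ω[B⁄k] :=
    Module.finBasisOfFinrankEq B _
      (Module.finrank_eq_of_rank_eq (Algebra.IsStandardSmoothOfRelativeDimension.rank_kaehlerDifferential r))
  let σ := ULift.{u} (Option (Fin r))
  let τ := ULift.{u} (Option (Fin m))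
  let col : τ → B := fun t => t.down.elim f a
  let row : σ → B → B := fun j x => j.down.elim x fun l => b.coord l (D k B x)
  have row_add : ∀ j x y, row j (x + y) = row j x + row j y := by
    rintro ⟨_ | l⟩ x y <;> simp [row]
  have row_smul : ∀ j (c : k) x, row j (algebraMap k B c * x) = algebraMap k B c * row j x := by
    rintro ⟨_ | l⟩ c x
    · simp [row]
    · simp only [row, Option.elim_some, Derivation.leibniz, Derivation.map_algebraMap, smul_zero,
        add_zero, map_smul, smul_eq_mul]
  let M : Matrix σ τ B := fun j t => row j (col t)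
  have hM : ∀ (j : σ) (s : τ → k),
      (M *ᵥ fun t => algebraMap k B (s t)) j = row j (∑ t, algebraMap k B (s t) * col t) := by
    intro j s
    let rowHom : B →+ B := AddMonoidHom.mk' (row j) (row_add j)
    have hr : rowHom (∑ t : τ, algebraMap k B (s t) * col t) =
        ∑ t : τ, rowHom (algebraMap k B (s t) * col t) := map_sum rowHom _ _
    show ∑ t : τ, row j (col t) * algebraMap k B (s t) = rowHom _
    rw [hr]
    refine Finset.sum_congr rfl fun t _ => ?_
    show row j (col t) * algebraMap k B (s t) = row j (algebraMap k B (s t) * col t)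
    rw [row_smul, mul_comm]
  have hres : ∀ v : Ideal B, v.IsMaximal → ∀ x : B, ∃ c : k, x - algebraMap k B c ∈ v := by
    intro v hv x
    haveI := hv
    letI := Ideal.Quotient.field v
    haveI : Module.Finite k (B ⧸ v) := finite_of_finite_type_of_isJacobsonRing k _
    obtain ⟨c, hc⟩ := (IsAlgClosed.algebraMap_bijective_of_isIntegral (k := k) (K := B ⧸ v)).2
      (Ideal.Quotient.mk v x)
    refine ⟨c, Ideal.Quotient.eq.1 ?_⟩
    rw [← hc]
    rfl
  obtain ⟨N, hN⟩ := exists_right_inverse M fun v hv j => by
    -- reduce to finding `z` with prescribed jet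
    suffices h : ∃ z : B, ∀ i, row i z - (if i = j then 1 else 0) ∈ v by
      obtain ⟨z, hz⟩ := h
      obtain ⟨c, hc⟩ := hjet v hv z
      refine ⟨fun t => algebraMap k B (t.down.elim 0 c), fun i => ?_⟩
      rw [hM]
      have e : ∑ t : τ, algebraMap k B (t.down.elim 0 c) * col t = ∑ i, algebraMap k B (c i) * a i := by
        rw [← Equiv.ulift.symm.sum_comp, Fintype.sum_option]
        simp [col]
      have hd : row i (∑ i, algebraMap k B (c i) * a i) - row i z ∈ v := by
        set w := ∑ i, algebraMap k B (c i) * a i - z with hw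
        have : row i (∑ i, algebraMap k B (c i) * a i) = row i w + row i z := by
          rw [← row_add, hw, sub_add_cancel]
        rw [this, add_sub_cancel_right]
        rcases i with ⟨_ | l⟩
        · exact Ideal.pow_le_self two_ne_zero hc
        · exact map_D_mem_of_mem_sq _ hc
      rw [e]
      simpa using v.add_mem hd (hz i)
    rcases j with ⟨_ | l⟩
    · refine ⟨1, ?_⟩
      rintro ⟨_ | l⟩
      · simp [row]
      · rw [if_neg fun h => Option.some_ne_none _ (congrArg ULift.down h)]
        simp [row]
    · obtain ⟨n, β, z, hsum⟩ := Submodule.mem_span_set'.1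
        ((span_range_derivation k B).ge (Submodule.mem_top (x := b l)))
      choose z' hz' using fun t => (z t).2
      choose κ hκ using fun t => hres v hv (z' t)
      refine ⟨∑ t, β t * (z' t - algebraMap k B (κ t)), ?_⟩
      have hmem : ∑ t, β t * (z' t - algebraMap k B (κ t)) ∈ v :=
        sum_mem fun t _ => v.mul_mem_left _ (hκ t)
      rintro ⟨_ | l'⟩
      · rw [if_neg fun h => Option.some_ne_none _ (congrArg ULift.down h).symm]
        simpa [row] using hmem
      · have hl : (if (⟨some l'⟩ : σ) = ⟨some l⟩ then (1 : B) else 0) = b.coord l' (b l) := by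
          rw [Module.Basis.coord_apply, Module.Basis.repr_self, Finsupp.single_apply]
          exact if_congr ⟨fun h => (Option.some_injective _ (congrArg ULift.down h)).symm, fun h => h ▸ rfl⟩ rfl rfl
        rw [hl, ← hsum]
        simp only [row, Option.elim_some, map_sum, ← Finset.sum_sub_distrib]
        refine sum_mem fun t _ => ?_
        rw [Derivation.leibniz, map_sub, Derivation.map_algebraMap, sub_zero, hz' t, map_add,
          add_sub_cancel_left, map_smul, smul_eq_mul]
        exact v.mul_mem_right _ (hκ t)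
  obtain ⟨g, hg0, hg⟩ := BertiniAff.exists_ne_zero_eval (k := k) r
    (SmoothDim.ringKrullDim_eq k B r).le σ τ (by simp [σ]) M N hN
  obtain ⟨a₀, ha₀⟩ : ∃ a₀ : τ → k, eval a₀ (g * X ⟨none⟩) ≠ 0 := by
    by_contra! hn
    exact mul_ne_zero hg0 (X_ne_zero _) (MvPolynomial.funext fun x => by rw [hn x, map_zero])
  rw [map_mul, eval_X] at ha₀
  set t₀ := a₀ ⟨none⟩ with ht₀
  let q : MvPolynomial (Fin m) k :=
    aeval (fun t : τ => t.down.elim (C t₀) fun i => C t₀ * X i) g
  have hq : ∀ c : Fin m → k, eval c q = eval (fun t : τ => t₀ * t.down.elim 1 c) g := by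
    intro c
    show (eval c).comp (aeval _).toRingHom g = _
    refine congrArg (fun φ : MvPolynomial τ k →+* k => φ g) (MvPolynomial.ringHom_ext (fun x => ?_) ?_)
    · simp
    · rintro ⟨_ | i⟩ <;> simp
  refine ⟨q, fun h0 => ?_, fun c hc => smooth_quotient _ fun v hv hmem => ?_⟩
  · refine left_ne_zero_of_mul ha₀ ?_
    have h1 := hq fun i => t₀⁻¹ * a₀ ⟨some i⟩
    rw [h0, map_zero] at h1
    refine Eq.trans (congrArg (fun x : τ → k => eval x g) ?_) h1.symm
    funext t
    obtain ⟨_ | i⟩ := t
    · simp [ht₀]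
    · simp [← mul_assoc, mul_inv_cancel₀ (right_ne_zero_of_mul ha₀)]
  · by_contra! hall
    refine hc ?_
    rw [hq c]
    haveI := hv
    letI := Ideal.Quotient.field v
    refine hg _ (B ⧸ v) (Ideal.Quotient.mkₐ k v) ?_
    set h := f + ∑ i, algebraMap k B (c i) * a i with hh
    funext j
    have e : ∑ t : τ, algebraMap k B (t₀ * t.down.elim 1 c) * col t = algebraMap k B t₀ * h := by
      rw [← Equiv.ulift.symm.sum_comp, Fintype.sum_option, hh, mul_add, Finset.mul_sum]
      simp [col, mul_assoc]
    have hj : (M *ᵥ fun t => algebraMap k B (t₀ * t.down.elim 1 c)) j ∈ v := by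
      rw [hM, e, row_smul]
      refine v.mul_mem_left _ ?_
      rcases j with ⟨_ | l⟩
      exacts [hmem, hall _]
    refine Eq.trans ?_ (Ideal.Quotient.eq_zero_iff_mem.2 hj)
    simp only [mulVec, dotProduct, map_sum, map_mul, Matrix.map_apply, Function.comp_apply]
    rfl

end Groth.Agent.VarBertini31
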