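import Groth.Agent.VarBertini31.Scheme
import Groth.Agent.QCoh.Stalk
import Mathlib.AlgebraicGeometry.Morphisms.FiniteType
import Mathlib.RingTheory.Localization.AtPrime.Basic

/-!
Jets of sections at closed points, read in a chart.
-/

universe u

set_option linter.style.haveILetI false
set_option backward.isDefEq.respectTransparency false
set_option backward.isDefEq.respectTransparency.types false

open CategoryTheory AlgebraicGeometry TopologicalSpace Opposite

namespace Groth.Agent.VarBertini31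

variable {k : Type u} [Field k] {Y : Scheme.{u}}

theorem exists_closed_point (f : Y ⟶ Spec (CommRingCat.of k)) [LocallyOfFiniteType f]
    {V : Y.Opens} (hV : IsAffineOpen V) (P : Ideal Γ(Y, V)) [hP : P.IsMaximal] :
    ∃ (p : Y) (hp : p ∈ V), IsClosed ({p} : Set Y) ∧ (hV.primeIdealOf ⟨p, hp⟩).asIdeal = P := by
  let y : Spec Γ(Y, V) := (⟨P, hP.isPrime⟩ : PrimeSpectrum Γ(Y, V))
  have hmem : hV.fromSpec y ∈ V := hV.range_fromSpec.le ⟨y, rfl⟩
  haveI : JacobsonSpace Y := LocallyOfFiniteType.jacobsonSpace f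
  have hc : IsClosed ({y} : Set (Spec Γ(Y, V))) :=
    (PrimeSpectrum.isClosed_singleton_iff_isMaximal _).2 hP
  have h1 : IsLocallyClosed (hV.fromSpec '' {y}) :=
    hc.isLocallyClosed.image hV.fromSpec.isOpenEmbedding.isInducing
      hV.fromSpec.isOpenEmbedding.isOpen_range.isLocallyClosed
  rw [Set.image_singleton] at h1
  refine ⟨_, hmem, isClosed_singleton_of_isLocallyClosed_singleton h1, ?_⟩
  have : hV.primeIdealOf ⟨_, hmem⟩ = y :=
    hV.fromSpec.isOpenEmbedding.injective (hV.fromSpec_primeIdealOf _)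
  rw [this]

variable {L : Y.Modules} {V : Y.Opens} {e : Γ(L, V)}

theorem germ_frame_generates (he : InvX.IsFrame e) {p : Y} (hp : p ∈ V) (l : L.presheaf.stalk p) :
    ∃ r : Y.presheaf.stalk p, r • L.presheaf.germ V p hp e = l := by
  obtain ⟨W, hpW, y, rfl⟩ := TopCat.Presheaf.exists_germ_eq L.presheaf l
  obtain ⟨r, hr⟩ := he.exists_coord (inf_le_right : W ⊓ V ≤ V) (AModX.res L inf_le_left y)
  refine ⟨Y.presheaf.germ (W ⊓ V) p ⟨hpW, hp⟩ r, ?_⟩
  rw [← L.presheaf.germ_res_apply (homOfLE (inf_le_right : W ⊓ V ≤ V)) p ⟨hpW, hp⟩ e,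
    ← QCoh.germ_smul', ← L.presheaf.germ_res_apply (homOfLE (inf_le_left : W ⊓ V ≤ W)) p ⟨hpW, hp⟩ y]
  exact congrArg _ hr.symm

theorem germ_frame_smul_injective (he : InvX.IsFrame e) {p : Y} (hp : p ∈ V)
    {a b : Y.presheaf.stalk p}
    (h : a • L.presheaf.germ V p hp e = b • L.presheaf.germ V p hp e) : a = b := by
  obtain ⟨W₁, hW₁, a, rfl⟩ := TopCat.Presheaf.exists_germ_eq Y.presheaf a
  obtain ⟨W₂, hW₂, b, rfl⟩ := TopCat.Presheaf.exists_germ_eq Y.presheaf b
  let W : Y.Opens := W₁ ⊓ W₂ ⊓ V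
  have hW : p ∈ W := ⟨⟨hW₁, hW₂⟩, hp⟩
  have hWV : W ≤ V := inf_le_right
  have h₁ : W ≤ W₁ := inf_le_left.trans inf_le_left
  have h₂ : W ≤ W₂ := inf_le_left.trans inf_le_right
  rw [← Y.presheaf.germ_res_apply (homOfLE h₁) p hW a,
    ← Y.presheaf.germ_res_apply (homOfLE h₂) p hW b,
    ← L.presheaf.germ_res_apply (homOfLE hWV) p hW e, ← QCoh.germ_smul', ← QCoh.germ_smul'] at h
  obtain ⟨W', hpW', i₁, i₂, heq⟩ := TopCat.Presheaf.germ_eq L.presheaf p hW hW _ _ h
  have hle : W' ≤ V := i₁.le.trans hWV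
  have heq' : AModX.res L i₁.le (AModX.resR h₁ a • AModX.res L hWV e) =
      AModX.res L i₁.le (AModX.resR h₂ b • AModX.res L hWV e) := heq
  rw [AModX.res_smul, AModX.res_smul, AModX.res_res] at heq'
  have h3 := he.coord_unique hle heq'
  refine (Y.presheaf.germ_res_apply (homOfLE h₁) p hW a).symm.trans
    (((Y.presheaf.germ_res_apply i₁ p hpW' _).symm.trans ?_).trans
      (Y.presheaf.germ_res_apply (homOfLE h₂) p hW b))
  exact (congrArg (Y.presheaf.germ W' p hpW') h3).trans (Y.presheaf.germ_res_apply i₁ p hpW' _)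

/-- A function whose multiple of the frame has vanishing one-jet lies in the square of the maximal ideal. -/
theorem mem_sq_of_germ (hV : IsAffineOpen V) (he : InvX.IsFrame e) {p : Y} (hp : p ∈ V)
    [(hV.primeIdealOf ⟨p, hp⟩).asIdeal.IsMaximal] (w : Γ(Y, V))
    (h : L.presheaf.germ V p hp (w • e) ∈ (IsLocalRing.maximalIdeal ↥(Y.presheaf.stalk p)) ^ 2 •
      (⊤ : Submodule ↥(Y.presheaf.stalk p) ↥(L.presheaf.stalk p))) :
    w ∈ (hV.primeIdealOf ⟨p, hp⟩).asIdeal ^ 2 := by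
  set ε := L.presheaf.germ V p hp e with hε
  have htop : (⊤ : Submodule ↥(Y.presheaf.stalk p) ↥(L.presheaf.stalk p)) = Submodule.span _ {ε} :=
    (eq_top_iff.2 fun l _ => Submodule.mem_span_singleton.2 (germ_frame_generates he hp l)).symm
  rw [htop, Submodule.mem_smul_span_singleton, QCoh.germ_smul'] at h
  obtain ⟨a, ha, hae⟩ := h
  obtain rfl := germ_frame_smul_injective he hp hae
  set v := (hV.primeIdealOf ⟨p, hp⟩).asIdeal
  letI := QCoh.stalkAlg (X := Y) hp
  haveI : IsLocalization.AtPrime (Y.presheaf.stalk p) v := QCoh.isLocalization_stalk' hV hp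
  rw [← IsLocalization.AtPrime.map_eq_maximalIdeal v (Y.presheaf.stalk p), ← Ideal.map_pow,
    show Y.presheaf.germ V p hp w = algebraMap Γ(Y, V) (Y.presheaf.stalk p) w from rfl,
    IsLocalization.mem_map_algebraMap_iff v.primeCompl] at ha
  obtain ⟨⟨⟨x, hx⟩, t⟩, hxt⟩ := ha
  rw [← map_mul] at hxt
  obtain ⟨s, hs⟩ := IsLocalization.exists_of_eq (M := v.primeCompl) hxt
  have hmem : ((s : Γ(Y, V)) * t) * w ∈ v ^ 2 := by
    rw [mul_assoc, mul_comm (t : Γ(Y, V)) w, hs]
    exact Ideal.mul_mem_left _ _ hx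
  obtain ⟨r, y, hy, hry⟩ := (inferInstance : v.IsMaximal).exists_inv (v.primeCompl.mul_mem s.2 t.2)
  have : w = r * (r * (s * t) + 2 * y) * ((s : Γ(Y, V)) * t * w) + y * y * w := by
    linear_combination -(r * (s * t) + y + 1) * w * hry
  rw [this]
  exact Ideal.add_mem _ (Ideal.mul_mem_left _ _ hmem)
    (Ideal.mul_mem_right _ _ (pow_two v ▸ Ideal.mul_mem_mul hy hy))

end Groth.Agent.VarBertini31
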