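import Groth.Agent.BertiniAff.Bad
import Mathlib.RingTheory.Etale.Kaehler
import Mathlib.RingTheory.Smooth.Basic
import Mathlib.RingTheory.Smooth.Locus

/-!
A hypersurface whose differential does not vanish along it, in a smooth algebra, is smooth.
-/

open TensorProduct KaehlerDifferential

universe u

set_option linter.style.haveILetI false

namespace Groth.Agent.VarBertini31

variable {k B : Type u} [CommRing k] [CommRing B] [Algebra k B]

/-- Formal smoothness of a hypersurface, given a functional with value one on its differential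
modulo the equation. -/
theorem formallySmooth_quotient' (h : B) (φ : Ω[B⁄k] →ₗ[B] B) (c : B)
    (hφ : φ (D k B h) = 1 + c * h) [Algebra.FormallySmooth k B] :
    Algebra.FormallySmooth k (B ⧸ Ideal.span {h}) := by
  have hs : Function.Surjective (algebraMap B (B ⧸ Ideal.span {h})) := Ideal.Quotient.mk_surjective
  let I := RingHom.ker (algebraMap B (B ⧸ Ideal.span {h}))
  have hI : h ∈ I := Ideal.Quotient.eq_zero_iff_mem.2 (Ideal.mem_span_singleton_self h)
  let hb : I.Cotangent := I.toCotangent ⟨h, hI⟩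
  have hhb : ∀ b ∈ I, b • hb = 0 := fun b hb' => by
    rw [← map_smul, Ideal.toCotangent_eq_zero, pow_two]
    exact Ideal.mul_mem_mul hb' hI
  let μ : (B ⧸ Ideal.span {h}) →ₗ[B] I.Cotangent :=
    Submodule.liftQ (Ideal.span {h}) (LinearMap.toSpanSingleton B _ hb) fun b hb' => by
      rw [LinearMap.mem_ker, LinearMap.toSpanSingleton_apply]
      exact hhb b (Ideal.Quotient.eq_zero_iff_mem.2 hb')
  let l : (B ⧸ Ideal.span {h}) ⊗[B] Ω[B⁄k] →ₗ[B] I.Cotangent :=
    μ ∘ₗ (TensorProduct.rid B (B ⧸ Ideal.span {h})).toLinearMap ∘ₗ φ.lTensor _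
  refine (Algebra.FormallySmooth.iff_split_injection (P := B) hs).2 ⟨l, ?_⟩
  refine LinearMap.ext fun z => ?_
  obtain ⟨⟨z, hz⟩, rfl⟩ := Ideal.toCotangent_surjective _ z
  rw [LinearMap.comp_apply, kerCotangentToTensor_toCotangent]
  have hz' := hz
  rw [Ideal.Quotient.algebraMap_eq, Ideal.mk_ker, Ideal.mem_span_singleton'] at hz'
  obtain ⟨b, rfl⟩ := hz'
  show μ (φ (D k B (b * h)) • (1 : B ⧸ Ideal.span {h})) = _
  have e : φ (D k B (b * h)) = b + (b * c + φ (D k B b)) * h := by
    rw [Derivation.leibniz, map_add, map_smul, map_smul, hφ, smul_eq_mul, smul_eq_mul]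
    ring
  rw [map_smul, e, show μ 1 = (1 : B) • hb from rfl, one_smul, add_smul, mul_smul _ h, hhb h hI,
    smul_zero, add_zero, LinearMap.id_apply, ← map_smul]
  rfl

/-- A hypersurface in a smooth algebra whose differential does not vanish at its closed points is
smooth. -/
theorem smooth_quotient [Algebra.Smooth k B] (h : B)
    (H : ∀ v : Ideal B, v.IsMaximal → h ∈ v → ∃ φ : Ω[B⁄k] →ₗ[B] B, φ (D k B h) ∉ v) :
    Algebra.Smooth k (B ⧸ Ideal.span {h}) := by
  let J : Ideal B := LinearMap.range ((LinearMap.applyₗ (D k B h) : (Ω[B⁄k] →ₗ[B] B) →ₗ[B] B))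
  have htop : J ⊔ Ideal.span {h} = ⊤ := by
    by_contra hne
    obtain ⟨v, hv, hle⟩ := Ideal.exists_le_maximal _ hne
    obtain ⟨φ, hφ⟩ := H v hv ((le_sup_right.trans hle) (Ideal.mem_span_singleton_self h))
    exact hφ ((le_sup_left.trans hle) ⟨φ, rfl⟩)
  obtain ⟨_, ⟨φ, rfl⟩, y, hy, hsum⟩ := Submodule.mem_sup.1 (htop ▸ Submodule.mem_top (x := (1 : B)))
  obtain ⟨c, rfl⟩ := Ideal.mem_span_singleton'.1 hy
  haveI := formallySmooth_quotient' h φ (-c) (by
    have : φ (D k B h) + c * h = 1 := hsum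
    linear_combination this)
  haveI : Algebra.FinitePresentation k (B ⧸ Ideal.span {h}) :=
    Algebra.FinitePresentation.quotient ⟨{h}, by simp⟩
  exact ⟨inferInstance, inferInstance⟩

end Groth.Agent.VarBertini31
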